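import Cfsg.Agent.Lib.Recog.SylowSeventeen.Simple
import Cfsg.Agent.Lib.Perm.PrimePlusOne
import Cfsg.Agent.Lib.PGroups.Basic
import Cfsg.Agent.Lib.HallGen.SylowNumber

/-!
# Centreless groups with the Sylow numbers of `PSL(2, 17)`
-/

set_option autoImplicit false
set_option linter.all false

namespace CfsgLib.Recog.SylowSeventeen

open Subgroup MulAction

variable {G : Type*} [Group G] [Finite G]

/-- For `L ≤ N` and `R` normal, the cosets of `N` in `R ⊔ L` are those in `R`. -/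
theorem relIndex_sup_of_le {R L N : Subgroup G} (hR : R.Normal) (hL : L ≤ N) :
    N.relIndex (R ⊔ L) = N.relIndex R := by
  have hb : Function.Bijective (quotientSubgroupOfEmbeddingOfLE N (le_sup_left : R ≤ R ⊔ L)) := by
    refine ⟨(quotientSubgroupOfEmbeddingOfLE N le_sup_left).injective, ?_⟩
    rintro ⟨x⟩
    obtain ⟨r, hr, l, hl, hrl⟩ := (mem_sup_of_normal_left (hs := hR)).1 x.2
    refine ⟨QuotientGroup.mk ⟨r, hr⟩, QuotientGroup.eq.2 ?_⟩
    rw [mem_subgroupOf]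
    show r⁻¹ * (x : G) ∈ N
    rw [← hrl, inv_mul_cancel_left]
    exact hL hl
  exact (Nat.card_eq_of_bijective _ hb).symm

section
variable (K : Subgroup G) [hK : K.Normal]

/-- If a normal subgroup normalises all Sylow `s`-subgroups then it meets them all in one subgroup. -/
theorem inf_sylow_eq {s : ℕ} [Fact s.Prime] (hn : ∀ P : Sylow s G, K ≤ normalizer ((P : Subgroup G) : Set G))
    (P Q : Sylow s G) : K ⊓ (P : Subgroup G) = K ⊓ Q := by
  have key : ∀ A B : Sylow s G, K ⊓ (A : Subgroup G) ≤ B := fun A B => by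
    have h : IsPGroup s ↥(K ⊓ (A : Subgroup G)) := A.2.to_le inf_le_right
    have h2 := h.inf_normalizer_sylow B
    have h3 : K ⊓ (A : Subgroup G) ≤ normalizer (B : Set G) := inf_le_left.trans (hn B)
    rw [inf_eq_left.2 h3] at h2
    exact h2.le.trans inf_le_right
  exact le_antisymm (le_inf inf_le_left (key P Q)) (le_inf inf_le_left (key Q P))

/-- That intersection is normal. -/
theorem inf_sylow_normal {s : ℕ} [Fact s.Prime] (hn : ∀ P : Sylow s G, K ≤ normalizer ((P : Subgroup G) : Set G))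
    (P : Sylow s G) : (K ⊓ (P : Subgroup G)).Normal := by
  refine ⟨fun x hx g => ?_⟩
  obtain ⟨hxK, hxP⟩ := hx
  rw [inf_sylow_eq K hn P (g • P)]
  refine ⟨hK.conj_mem x hxK g, ?_⟩
  show g * x * g⁻¹ ∈ ((g • P : Sylow s G) : Subgroup G)
  rw [Sylow.coe_subgroup_smul, Subgroup.mem_pointwise_smul_iff_inv_smul_mem, ← map_inv, MulAut.smul_def, MulAut.conj_apply]
  have hxP' : x ∈ (P : Subgroup G) := hxP
  simpa [mul_assoc] using hxP'

theorem not_dvd_relIndex_sylow {s : ℕ} [Fact s.Prime] (P : Sylow s G) : ¬ s ∣ (P : Subgroup G).relIndex K := by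
  intro h
  rw [← relIndex_sup_of_le hK (le_refl (P : Subgroup G))] at h
  exact P.not_dvd_index (h.trans (relIndex_dvd_index_of_le le_sup_right))

/-- No prime `r` outside the quotient, whose Sylow number is `m`. -/
theorem not_dvd_card {r m : ℕ} [Fact r.Prime] (hrm : Nat.card (Sylow r G) = m)
    (hnK : ¬ r ∣ K.index) (S : Finset ℕ) (hSp : ∀ s ∈ S, s.Prime ∧ s ≠ r)
    (hn : ∀ s ∈ S, ∀ P : Sylow s G, K ≤ normalizer ((P : Subgroup G) : Set G))
    (hsmall : ∀ s ∈ S, ∀ d ∈ Nat.divisors m, d % r = 1 → (∀ p ∈ Nat.primeFactors d, p = s) → d = 1)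
    (hdiv : ∃ s ∈ S, s ∣ m) : ¬ r ∣ Nat.card G := by
  intro hr
  obtain ⟨A⟩ : Nonempty (Sylow r G) := inferInstance
  obtain ⟨N, hN⟩ : ∃ N, N = normalizer ((A : Subgroup G) : Set G) := ⟨_, rfl⟩
  have hNi : N.index = m := by rw [hN, ← hrm]; exact A.card_eq_index_normalizer.symm
  have hAN : (A : Subgroup G) ≤ N := hN ▸ le_normalizer
  have hm0 : m ≠ 0 := by rw [← hrm]; exact Nat.card_pos.ne'
  have hAK : (A : Subgroup G) ≤ K := by
    intro x hx
    have h1 : orderOf (x : G ⧸ K) ∣ K.index := by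
      rw [index_eq_card]; exact orderOf_dvd_natCard _
    have h2 : orderOf (x : G ⧸ K) ∣ orderOf x :=
      orderOf_map_dvd (QuotientGroup.mk' K) x
    obtain ⟨k, hk⟩ := IsPGroup.iff_orderOf.1 A.2 ⟨x, hx⟩
    rw [Subgroup.orderOf_mk] at hk
    rw [hk] at h2
    obtain ⟨j, _, hj⟩ := (Nat.dvd_prime_pow Fact.out).1 h2
    rcases j with _ | j
    · rw [pow_zero, orderOf_eq_one_iff, QuotientGroup.eq_one_iff] at hj
      exact hj
    · exact absurd ((dvd_pow_self r (Nat.succ_ne_zero j)).trans (hj ▸ h1)) hnK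
  have hle : ∀ s ∈ S, ∀ P : Sylow s G, K ⊓ (P : Subgroup G) ≤ N := by
    intro s hs P
    haveI := Fact.mk (hSp s hs).1
    have hR := inf_sylow_normal K (hn s hs) P
    rw [← relIndex_eq_one]
    refine hsmall s hs _ (Nat.mem_divisors.2 ⟨?_, hm0⟩) ?_ ?_
    · rw [← relIndex_sup_of_le hR (le_refl N), ← hNi]
      exact relIndex_dvd_index_of_le le_sup_right
    · rw [← relIndex_sup_of_le hR hAN, hN]
      show (normalizer ((A : Subgroup G) : Set G)).relIndex _ % r = 1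
      rw [← CfsgLib.HallGen.card_sylow_eq_relIndex_normalizer A _ le_sup_right]
      exact Eq.trans (card_sylow_modEq_one r _) (Nat.mod_eq_of_lt (Fact.out : r.Prime).one_lt)
    · intro p hp
      obtain ⟨hpp, hpd, _⟩ := Nat.mem_primeFactors.1 hp
      obtain ⟨k, hk⟩ := IsPGroup.iff_card.1 (P.2.to_le (inf_le_right : K ⊓ (P : Subgroup G) ≤ P))
      have := hpd.trans (relIndex_dvd_card N (K ⊓ (P : Subgroup G)))
      rw [hk] at this
      exact (Nat.prime_dvd_prime_iff_eq hpp (hSp s hs).1).1 (hpp.dvd_of_dvd_pow this)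
  obtain ⟨s, hs, hsm⟩ := hdiv
  haveI := Fact.mk (hSp s hs).1
  obtain ⟨P⟩ : Nonempty (Sylow s G) := inferInstance
  refine not_dvd_relIndex_sylow K P (hsm.trans ?_)
  have hfr : N ⊔ K = ⊤ := by
    have h := Sylow.normalizer_sup_eq_top (A.subtype hAK)
    rw [Sylow.coe_subtype, Subgroup.map_subgroupOf_eq_of_le hAK, ← hN] at h
    exact h
  have hm' : m = N.relIndex K := by
    rw [← relIndex_sup_of_le hK (le_refl N), sup_comm, hfr, relIndex_top_right, hNi]
  rw [hm', ← inf_relIndex_right (P : Subgroup G) K, ← inf_relIndex_right N K, inf_comm (P : Subgroup G) K]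
  refine relIndex_dvd_of_le_left K (le_inf (hle s hs P) inf_le_left)

/-- If all primes have their Sylow subgroups normalised by `K` then `K` is trivial. -/
theorem eq_bot (hZ : center G = ⊥)
    (hn : ∀ s : ℕ, s.Prime → s ∣ Nat.card G → ∀ P : Sylow s G, K ≤ normalizer ((P : Subgroup G) : Set G)) :
    K = ⊥ := by
  by_contra hne
  obtain ⟨r, hr, hrK⟩ := Nat.exists_prime_and_dvd (n := Nat.card K) fun h => hne (card_eq_one.1 h)
  haveI := Fact.mk hr
  have hrG : r ∣ Nat.card G := hrK.trans (card_subgroup_dvd_card K)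
  obtain ⟨P⟩ : Nonempty (Sylow r G) := inferInstance
  have hR := inf_sylow_normal K (hn r hr hrG) P
  have hR1 : K ⊓ (P : Subgroup G) ≠ ⊥ := by
    intro h
    refine not_dvd_relIndex_sylow K P ?_
    rw [← inf_relIndex_right, inf_comm, h, relIndex_bot_left]
    exact hrK
  have hRn : ((K ⊓ (P : Subgroup G)).subgroupOf (P : Subgroup G)).Normal := hR.subgroupOf _
  have hne' : (K ⊓ (P : Subgroup G)).subgroupOf (P : Subgroup G) ≠ ⊥ := fun h => hR1 (by
    rw [subgroupOf_eq_bot, disjoint_iff, inf_assoc, inf_idem] at h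
    exact h)
  have hne2 := CfsgLib.PGroups.inf_center_ne_bot P.2 hne'
  obtain ⟨⟨⟨z, hzP⟩, hzR, hzc⟩, hz1⟩ :=
    ne_bot_iff_exists_ne_one.1 hne2
  have hzR : z ∈ K ⊓ (P : Subgroup G) := mem_subgroupOf.1 hzR
  have hz : z ∈ center G := by
    have htop : centralizer ({z} : Set G) = ⊤ := by
      rw [← index_eq_one]
      by_contra hi
      obtain ⟨s, hs, hsd⟩ := Nat.exists_prime_and_dvd hi
      haveI := Fact.mk hs
      have hsG : s ∣ Nat.card G := hsd.trans (index_dvd_card _)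
      obtain ⟨Q, hQ⟩ : ∃ Q : Sylow s G, (Q : Subgroup G) ≤ centralizer ({z} : Set G) := by
        by_cases hsr : s = r
        · subst hsr
          exact ⟨P, fun y hy => mem_centralizer_singleton_iff.2
            (congrArg Subtype.val (mem_center_iff.1 hzc ⟨y, hy⟩))⟩
        · obtain ⟨Q⟩ : Nonempty (Sylow s G) := inferInstance
          refine ⟨Q, fun x hx => mem_centralizer_singleton_iff.2 ?_⟩
          have h1 : x * z * x⁻¹ * z⁻¹ ∈ K ⊓ (P : Subgroup G) :=
            mul_mem (hR.conj_mem z hzR x) (inv_mem hzR)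
          have h2 : x * z * x⁻¹ * z⁻¹ ∈ (Q : Subgroup G) := by
            rw [mul_assoc, mul_assoc, ← mul_assoc z]
            exact mul_mem hx ((mem_normalizer_iff.1 (hn s hs hsG Q hzR.1) x⁻¹).1 (inv_mem hx))
          have hbot : K ⊓ (P : Subgroup G) ⊓ (Q : Subgroup G) = ⊥ :=
            disjoint_iff.1 ((IsPGroup.disjoint_of_ne r s (Ne.symm hsr) _ _ P.2 Q.2).mono_left inf_le_right)
          have h3 : x * z * x⁻¹ * z⁻¹ = 1 := by rw [← mem_bot, ← hbot]; exact ⟨h1, h2⟩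
          exact mul_inv_eq_iff_eq_mul.1 (mul_inv_eq_one.1 h3)
      exact Q.not_dvd_index (hsd.trans (index_dvd_of_le hQ))
    refine mem_center_iff.2 fun g => ?_
    exact mem_centralizer_singleton_iff.1 (htop ▸ mem_top g)
  rw [hZ, mem_bot] at hz
  exact hz1 (Subtype.ext (Subtype.ext hz))

end

theorem prime_cases_135 {r : ℕ} (hr : r.Prime) (h : r ∣ 135) : r = 3 ∨ r = 5 := by
  have : r ∈ Nat.primeFactors 135 := Nat.mem_primeFactors.2 ⟨hr, h, by norm_num⟩
  have h' : Nat.primeFactors 135 ⊆ {3, 5} := by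
    intro p hp
    obtain ⟨hp1, hp2, _⟩ := Nat.mem_primeFactors.1 hp
    rw [show (135 : ℕ) = 3 ^ 3 * 5 by norm_num] at hp2
    rcases hp1.dvd_mul.1 hp2 with h | h
    · simp [(Nat.prime_dvd_prime_iff_eq hp1 Nat.prime_three).1 (hp1.dvd_of_dvd_pow h)]
    · simp [(Nat.prime_dvd_prime_iff_eq hp1 (by norm_num)).1 h]
  simpa using h' this

set_option maxHeartbeats 1000000 in
/-- The classification. -/
theorem main (hZ : center G = ⊥)
    (hNS : {c : ℕ | ∃ r : ℕ, r.Prime ∧ r ∣ Nat.card G ∧ c = Nat.card (Sylow r G)} = ({18, 136, 153} : Set ℕ)) :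
    Nonempty (G ≃* Matrix.ProjectiveSpecialLinearGroup (Fin 2) (ZMod 17)) ∨
      Nonempty (G ≃* Matrix.ProjGenLinGroup (Fin 2) (ZMod 17)) := by
  classical
  haveI : Fact (Nat.Prime 17) := ⟨by norm_num⟩
  haveI : Fact (Nat.Prime 2) := ⟨Nat.prime_two⟩
  haveI : Fact (Nat.Prime 3) := ⟨Nat.prime_three⟩
  have hcase : ∀ r : ℕ, r.Prime → r ∣ Nat.card G → (r = 17 ∧ Nat.card (Sylow r G) = 18) ∨
      ((r = 3 ∨ r = 5) ∧ Nat.card (Sylow r G) = 136) ∨ ((r = 2 ∨ r = 19) ∧ Nat.card (Sylow r G) = 153) := by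
    intro r hr hd
    haveI := Fact.mk hr
    have hmem : Nat.card (Sylow r G) ∈ ({18, 136, 153} : Set ℕ) := hNS ▸ ⟨r, hr, hd, rfl⟩
    have hmod := card_sylow_modEq_one r G
    have hdvd : ∀ m, Nat.card (Sylow r G) = m → 1 ≤ m → r ∣ m - 1 := fun m hm h1 =>
      (Nat.modEq_iff_dvd' h1).1 (hm ▸ hmod.symm)
    rcases hmem with h | h | h
    · exact Or.inl ⟨(Nat.prime_dvd_prime_iff_eq hr (by norm_num : Nat.Prime 17)).1 (hdvd 18 h (by norm_num)), h⟩
    · exact Or.inr (Or.inl ⟨prime_cases_135 hr (hdvd 136 h (by norm_num)), h⟩)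
    · refine Or.inr (Or.inr ⟨?_, h⟩)
      have := hdvd 153 h (by norm_num)
      rw [show (153 - 1 : ℕ) = 2 ^ 3 * 19 by norm_num] at this
      rcases hr.dvd_mul.1 this with h' | h'
      · exact Or.inl ((Nat.prime_dvd_prime_iff_eq hr Nat.prime_two).1 (hr.dvd_of_dvd_pow h'))
      · exact Or.inr ((Nat.prime_dvd_prime_iff_eq hr (by norm_num)).1 h')
  obtain ⟨h17G, h17⟩ : 17 ∣ Nat.card G ∧ Nat.card (Sylow 17 G) = 18 := by
    obtain ⟨r, hr, hd, hc⟩ : (18 : ℕ) ∈ {c : ℕ | ∃ r : ℕ, r.Prime ∧ r ∣ Nat.card G ∧ c = Nat.card (Sylow r G)} := by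
      rw [hNS]; simp
    rcases hcase r hr hd with ⟨rfl, h⟩ | ⟨_, h⟩ | ⟨_, h⟩
    · exact ⟨hd, h⟩
    · omega
    · omega
  have h18G : 18 ∣ Nat.card G := by
    obtain ⟨P⟩ : Nonempty (Sylow 17 G) := inferInstance
    rw [← h17]
    exact P.card_dvd_index.trans (index_dvd_card _)
  have h2 : Nat.card (Sylow 2 G) = 153 := by
    rcases hcase 2 Nat.prime_two (dvd_trans (by norm_num) h18G) with ⟨h, _⟩ | ⟨h, _⟩ | ⟨_, h⟩
    · omega
    · omega
    · exact h
  have h3 : Nat.card (Sylow 3 G) = 136 := by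
    rcases hcase 3 Nat.prime_three (dvd_trans (by norm_num) h18G) with ⟨h, _⟩ | ⟨_, h⟩ | ⟨h, _⟩
    · omega
    · exact h
    · omega
  -- the action on the Sylow 17-subgroups
  haveI : Fintype (Sylow 17 G) := Fintype.ofFinite _
  have hα : Fintype.card (Sylow 17 G) = 17 + 1 := by rw [← Nat.card_eq_fintype_card, h17]
  obtain ⟨G₀, hG₀⟩ : ∃ G₀, G₀ = (toPermHom G (Sylow 17 G)).range := ⟨_, rfl⟩
  obtain ⟨φ, hφ⟩ : ∃ φ : G →* G₀, φ = (MulEquiv.subgroupCongr hG₀.symm).toMonoidHom.comp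
      (toPermHom G (Sylow 17 G)).rangeRestrict := ⟨_, rfl⟩
  have hφsurj : Function.Surjective φ := by
    rw [hφ]; exact (MulEquiv.subgroupCongr hG₀.symm).surjective.comp (MonoidHom.rangeRestrict_surjective _)
  have hφv : ∀ g Q, ((φ g : G₀) : Equiv.Perm (Sylow 17 G)) Q = g • Q := fun g Q => by rw [hφ]; rfl
  haveI : IsPretransitive G₀ (Sylow 17 G) := ⟨fun P Q => by
    obtain ⟨g, hg⟩ := exists_smul_eq G P Q
    exact ⟨φ g, (hφv g P).trans hg⟩⟩
  obtain ⟨P₀⟩ : Nonempty (Sylow 17 G) := inferInstance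
  obtain ⟨A, hA⟩ : ∃ A, A = stabilizer G₀ P₀ := ⟨_, rfl⟩
  have hfix : ∀ y ∈ (P₀ : Subgroup G), ∀ Q : Sylow 17 G, (∀ y ∈ (P₀ : Subgroup G), y • Q = Q) → Q = P₀ := by
    intro y _ Q hQ
    refine Sylow.ext (P₀.3 Q.2 ?_)
    have h1 : (P₀ : Subgroup G) ≤ normalizer (Q : Set G) := fun y hy =>
      Sylow.smul_eq_iff_mem_normalizer.1 (hQ y hy)
    have h2 := P₀.2.inf_normalizer_sylow Q
    rw [inf_eq_left.2 h1] at h2
    exact h2.le.trans inf_le_right
  obtain ⟨y, hy, hσ1⟩ : ∃ y ∈ (P₀ : Subgroup G), φ y ≠ 1 := by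
    by_contra h
    push Not at h
    have : Nontrivial (Sylow 17 G) := Fintype.one_lt_card_iff_nontrivial.1 (by omega)
    obtain ⟨Q, hQ⟩ := exists_ne P₀
    refine hQ (hfix 1 (one_mem _) Q fun y hy => ?_)
    rw [← hφv, h y hy]; rfl
  obtain ⟨σ, hσ⟩ : ∃ σ : Equiv.Perm (Sylow 17 G), σ = (φ y : Equiv.Perm (Sylow 17 G)) := ⟨_, rfl⟩
  have hσne : σ ≠ 1 := fun h => hσ1 (Subtype.ext (hσ ▸ h))
  -- the image of the Sylow subgroup has order 17
  obtain ⟨B, hB⟩ : ∃ B, B = ((P₀ : Subgroup G).map φ).map G₀.subtype := ⟨_, rfl⟩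
  have hB17 : Nat.card B = 17 := by
    obtain ⟨k, hk⟩ := IsPGroup.iff_card.1 (hB ▸ (P₀.2.map φ).map G₀.subtype : IsPGroup 17 B)
    have hd := card_subgroup_dvd_card B
    rw [hk, Nat.card_perm, h17] at hd
    rcases k with _ | _ | k
    · exfalso
      rw [pow_zero] at hk
      exact hσne (mem_bot.1 (card_eq_one.1 hk ▸ (hB ▸ ⟨φ y, ⟨y, hy, rfl⟩, hσ.symm⟩ : σ ∈ B)))
    · rw [hk]; norm_num
    · exfalso
      have h289 : 17 ^ 2 ∣ Nat.factorial 18 := (pow_dvd_pow 17 (by omega : 2 ≤ k + 1 + 1)).trans hd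
      norm_num [Nat.factorial] at h289
  have hσB : σ ∈ B := hB ▸ ⟨φ y, ⟨y, hy, rfl⟩, hσ.symm⟩
  have hσgen : B = zpowers σ := by
    refine (eq_of_le_of_card_ge (zpowers_le.2 hσB) ?_).symm
    rw [hB17, Nat.card_zpowers]
    have := orderOf_dvd_natCard (G := ↥B) ⟨σ, hσB⟩
    rw [hB17, Subgroup.orderOf_mk] at this
    rcases (Nat.dvd_prime (by norm_num)).1 this with h | h
    · exact absurd (orderOf_eq_one_iff.1 h) hσne
    · omega
  have hBA : ∀ a ∈ A, ∀ b ∈ B, (a : Equiv.Perm (Sylow 17 G)) * b * (a : Equiv.Perm (Sylow 17 G))⁻¹ ∈ B := by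
    intro a ha b hb
    obtain ⟨g, rfl⟩ := hφsurj a
    rw [hA, mem_stabilizer_iff] at ha
    have hgN : g ∈ normalizer ((P₀ : Subgroup G) : Set G) :=
      Sylow.smul_eq_iff_mem_normalizer.1 ((hφv g P₀).symm.trans ha)
    rw [hB] at hb ⊢
    obtain ⟨_, ⟨w, hw, rfl⟩, rfl⟩ := hb
    exact ⟨φ (g * w * g⁻¹), ⟨_, (mem_normalizer_iff.1 hgN w).1 hw, rfl⟩, by simp⟩
  have hσfix : ∀ Q, σ Q = Q → Q = P₀ := by
    intro Q hQ
    refine hfix y hy Q fun w hw => ?_
    obtain ⟨i, hi⟩ : (φ w : Equiv.Perm (Sylow 17 G)) ∈ zpowers σ := hσgen ▸ (hB ▸ ⟨φ w, ⟨w, hw, rfl⟩, rfl⟩)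
    rw [← hφv, ← hi]
    exact Function.IsFixedPt.perm_zpow hQ i
  have hσP : σ P₀ = P₀ := by
    rw [hσ, hφv]; exact Sylow.smul_eq_iff_mem_normalizer.2 (le_normalizer hy)
  obtain ⟨Q₀, hQ₀⟩ : ∃ Q₀, Q₀ ≠ P₀ := by
    have : Nontrivial (Sylow 17 G) := Fintype.one_lt_card_iff_nontrivial.1 (by omega)
    exact exists_ne P₀
  have hσord : orderOf σ = 17 := by rw [← Nat.card_zpowers, ← hσgen, hB17]
  have hcyc : ∀ Q, Q ≠ P₀ → ∃ i : ℕ, (σ ^ i) Q₀ = Q := by
    intro Q hQ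
    -- the powers of `σ` give all seventeen other points
    have hinj : Function.Injective fun i : Fin 17 => (⟨(σ ^ (i : ℕ)) Q₀, fun h => hQ₀ ((σ ^ (i : ℕ)).injective
        (h.trans (Function.IsFixedPt.perm_pow (show Function.IsFixedPt σ P₀ from hσP) _).symm))⟩ :
        {Q // Q ≠ P₀}) := by
      intro i j hij
      have hij' : (σ ^ (i : ℕ)) Q₀ = (σ ^ (j : ℕ)) Q₀ := congrArg Subtype.val hij
      by_contra hne
      wlog hlt : (i : ℕ) < j generalizing i j
      · exact this hij.symm hij'.symm (Ne.symm hne) (by omega)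
      obtain ⟨k, hk⟩ : ∃ k, (j : ℕ) = i + k := ⟨j - i, by omega⟩
      rw [hk, pow_add, Equiv.Perm.mul_apply] at hij'
      have hk0 : (σ ^ k) Q₀ = Q₀ := ((σ ^ (i : ℕ)).injective hij').symm
      have hcop : Nat.Coprime k (orderOf σ) := by
        rw [hσord, Nat.coprime_comm]
        exact (by norm_num : Nat.Prime 17).coprime_iff_not_dvd.2 fun hd =>
          by have := Nat.le_of_dvd (by omega) hd; omega
      obtain ⟨l, hl⟩ := exists_pow_eq_self_of_coprime hcop
      exact hQ₀ (hσfix _ (by rw [← hl]; exact Function.IsFixedPt.perm_pow hk0 l))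
    obtain ⟨i, hi⟩ := (hinj.bijective_of_nat_card_le (by
      rw [Nat.card_eq_fintype_card, Fintype.card_subtype_compl, Fintype.card_subtype_eq, hα, Nat.card_eq_fintype_card, Fintype.card_fin])).surjective ⟨Q, hQ⟩
    exact ⟨i, congrArg Subtype.val hi⟩
  have hA17 : 17 ∣ Nat.card A := by
    have hmem : φ y ∈ A := by
      rw [hA, mem_stabilizer_iff]
      show (φ y : Equiv.Perm (Sylow 17 G)) P₀ = P₀
      rw [← hσ]; exact hσP
    have := orderOf_dvd_natCard (G := ↥A) ⟨φ y, hmem⟩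
    rwa [Subgroup.orderOf_mk, ← Subgroup.orderOf_coe, ← hσ, hσord] at this
  have hAle : Nat.card A ≤ 16 * 17 := by
    let F : ↥A → {w : ↥B // w ≠ 1} × {Q : Sylow 17 G // Q ≠ P₀} := fun a =>
      (⟨⟨_, hBA a a.2 σ hσB⟩, fun h => hσne (conj_eq_one_iff.1 (congrArg Subtype.val h))⟩,
        ⟨((a : G₀) : Equiv.Perm (Sylow 17 G)) Q₀, fun h => hQ₀ (((a : G₀) : Equiv.Perm (Sylow 17 G)).injective
          (h.trans (mem_stabilizer_iff.1 (hA ▸ a.2) : (a : G₀) • P₀ = P₀).symm))⟩)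
    have hF : Function.Injective F := by
      intro a b hab
      refine Subtype.ext (Subtype.ext ?_)
      have h1 : ((a : G₀) : Equiv.Perm (Sylow 17 G)) * σ * ((a : G₀) : Equiv.Perm (Sylow 17 G))⁻¹ =
          ((b : G₀) : Equiv.Perm (Sylow 17 G)) * σ * ((b : G₀) : Equiv.Perm (Sylow 17 G))⁻¹ :=
        congrArg Subtype.val (congrArg Subtype.val (congrArg Prod.fst hab))
      have h2 : ((a : G₀) : Equiv.Perm (Sylow 17 G)) Q₀ = ((b : G₀) : Equiv.Perm (Sylow 17 G)) Q₀ :=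
        congrArg Subtype.val (congrArg Prod.snd hab)
      have hc : Commute (((b : G₀) : Equiv.Perm (Sylow 17 G))⁻¹ * ((a : G₀) : Equiv.Perm (Sylow 17 G))) σ := by
        show _ * σ = σ * _
        calc _ = ((b : G₀) : Equiv.Perm (Sylow 17 G))⁻¹ * (((a : G₀) : Equiv.Perm (Sylow 17 G)) * σ *
              ((a : G₀) : Equiv.Perm (Sylow 17 G))⁻¹) * ((a : G₀) : Equiv.Perm (Sylow 17 G)) := by group
          _ = _ := by rw [h1]; group
      ext Q : 1
      by_cases hQ : Q = P₀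
      · subst hQ
        have hs : ∀ c ∈ A, ((c : G₀) : Equiv.Perm (Sylow 17 G)) Q = Q := fun c hc => by
          rw [hA] at hc; exact mem_stabilizer_iff.1 hc
        exact (hs _ a.2).trans (hs _ b.2).symm
      · obtain ⟨i, rfl⟩ := hcyc Q hQ
        have h3 := DFunLike.congr_fun (hc.pow_right i).eq Q₀
        simp only [Equiv.Perm.mul_apply, h2, Equiv.Perm.inv_def, Equiv.symm_apply_apply] at h3
        rw [Equiv.symm_apply_eq] at h3
        exact h3
    refine (Nat.card_le_card_of_injective F hF).trans (le_of_eq ?_)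
    rw [Nat.card_prod, Nat.card_eq_fintype_card, Fintype.card_subtype_compl, Fintype.card_subtype_eq,
      Nat.card_eq_fintype_card, Fintype.card_subtype_compl, Fintype.card_subtype_eq, hα,
      ← Nat.card_eq_fintype_card, hB17]
  obtain ⟨d, hd⟩ := hA17
  have hG₀card : Nat.card G₀ = (17 + 1) * 17 * d := by
    rw [← card_mul_index A, hA, index_stabilizer_of_transitive, h17, ← hA, hd]
    ring
  have hd17 : d < 17 := by omega
  have hcases := CfsgLib.Perm.PrimePlusOne.classify (p := 17) (d := d) (by norm_num) hα G₀ hG₀card hd17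
  obtain ⟨ψ, hψ, hfinal⟩ : ∃ ψ : Matrix.ProjectiveSpecialLinearGroup (Fin 2) (ZMod 17) →* G₀, Function.Injective ψ ∧
      (Nonempty (G₀ ≃* Matrix.ProjectiveSpecialLinearGroup (Fin 2) (ZMod 17)) ∨
        Nonempty (G₀ ≃* Matrix.ProjGenLinGroup (Fin 2) (ZMod 17))) := by
    rcases hcases with ⟨_, ⟨e⟩⟩ | ⟨_, ⟨e⟩⟩ | ⟨q, _, hq, _⟩
    · exact ⟨e.symm.toMonoidHom.comp Matrix.ProjectiveSpecialLinearGroup.toPGL,
        e.symm.injective.comp Matrix.ProjectiveSpecialLinearGroup.toPGL_injective, Or.inr ⟨e⟩⟩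
    · exact ⟨e.symm.toMonoidHom, e.symm.injective, Or.inl ⟨e⟩⟩
    · exfalso
      have h9 : 9 ∣ 2 ^ q := ⟨2, by rw [← hq]⟩
      have := Nat.Coprime.eq_one_of_dvd (Nat.Coprime.pow_right q (by norm_num : Nat.Coprime 9 2)) h9
      omega
  -- the kernel normalises all Sylow subgroups
  have hup : ∀ r : ℕ, ∀ [Fact r.Prime], Nat.card (Sylow r G₀) ≤ Nat.card (Sylow r G) ∧
      Nat.card (Sylow r (Matrix.ProjectiveSpecialLinearGroup (Fin 2) (ZMod 17))) ≤ Nat.card (Sylow r G₀) := by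
    intro r _
    refine ⟨Nat.card_le_card_of_surjective _ (Sylow.mapSurjective_surjective hφsurj r), ?_⟩
    choose R hR using fun Q : Sylow r (Matrix.ProjectiveSpecialLinearGroup (Fin 2) (ZMod 17)) =>
      Q.exists_comap_eq_of_injective hψ
    exact Nat.card_le_card_of_injective R fun Q Q' h => Sylow.ext (by rw [← hR Q, ← hR Q', h])
  have hnorm : ∀ r : ℕ, ∀ [Fact r.Prime], Nat.card (Sylow r G₀) = Nat.card (Sylow r G) →
      ∀ P : Sylow r G, φ.ker ≤ normalizer ((P : Subgroup G) : Set G) := by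
    intro r _ heq P k hk
    refine Sylow.smul_eq_iff_mem_normalizer.1 ?_
    refine ((Sylow.mapSurjective_surjective hφsurj r).bijective_of_nat_card_le heq.ge).injective ?_
    refine Sylow.ext ?_
    rw [Sylow.coe_mapSurjective, Sylow.coe_mapSurjective]
    ext w
    simp only [mem_map]
    constructor
    · rintro ⟨x, hx, rfl⟩
      refine ⟨k⁻¹ * x * k, ?_, by simp [MonoidHom.mem_ker.1 hk]⟩
      rw [Sylow.coe_subgroup_smul, Subgroup.mem_pointwise_smul_iff_inv_smul_mem, ← map_inv, MulAut.smul_def,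
        MulAut.conj_apply] at hx
      simpa using hx
    · rintro ⟨x, hx, rfl⟩
      refine ⟨k * x * k⁻¹, ?_, by simp [MonoidHom.mem_ker.1 hk]⟩
      rw [Sylow.coe_subgroup_smul, Subgroup.mem_pointwise_smul_iff_inv_smul_mem, ← map_inv, MulAut.smul_def,
        MulAut.conj_apply]
      simpa [mul_assoc] using hx
  obtain ⟨l2, l3⟩ := psl_sylow_ge
  have hdvd2 : Nat.card (Sylow 2 (Matrix.ProjectiveSpecialLinearGroup (Fin 2) (ZMod 17))) ∣ 153 := by
    obtain ⟨P⟩ : Nonempty (Sylow 2 (Matrix.ProjectiveSpecialLinearGroup (Fin 2) (ZMod 17))) := inferInstance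
    refine P.card_dvd_index.trans ?_
    have hc : Nat.card (Matrix.ProjectiveSpecialLinearGroup (Fin 2) (ZMod 17)) = 2 ^ 4 * 153 := by
      have h2 := CfsgLib.Classical.Two.card_PSL_two (F := ZMod 17)
      rw [ZMod.card, show Nat.gcd 2 (17 - 1) = 2 by decide, show 17 * (17 ^ 2 - 1) = 4896 by norm_num] at h2
      omega
    have hi := index_dvd_card (P : Subgroup (Matrix.ProjectiveSpecialLinearGroup (Fin 2) (ZMod 17)))
    rw [hc] at hi
    refine Nat.Coprime.dvd_of_dvd_mul_left ?_ hi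
    exact ((Nat.prime_two.coprime_iff_not_dvd).2 P.not_dvd_index).symm.pow_right 4
  have hK2 := hnorm 2 (by have := l2 hdvd2; have := hup 2; omega)
  have hK3 := hnorm 3 (by
    have := (hup 3).1
    have := (hup 3).2
    have := l3 (by omega)
    omega)
  have hK17 : ∀ P : Sylow 17 G, φ.ker ≤ normalizer ((P : Subgroup G) : Set G) := fun P k hk => by
    refine Sylow.smul_eq_iff_mem_normalizer.1 ?_
    rw [← hφv, MonoidHom.mem_ker.1 hk]; rfl
  have hidx : ∀ r : ℕ, r.Prime → r ∣ φ.ker.index → r = 2 ∨ r = 3 ∨ r = 17 := by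
    intro r hr h
    rw [index_ker, MonoidHom.range_eq_top.2 hφsurj, card_top, hG₀card] at h
    rcases hr.dvd_mul.1 h with h | h
    · rcases hr.dvd_mul.1 h with h | h
      · rw [show (17 + 1 : ℕ) = 2 * 3 ^ 2 by norm_num] at h
        rcases hr.dvd_mul.1 h with h | h
        · exact Or.inl ((Nat.prime_dvd_prime_iff_eq hr Nat.prime_two).1 h)
        · exact Or.inr (Or.inl ((Nat.prime_dvd_prime_iff_eq hr Nat.prime_three).1 (hr.dvd_of_dvd_pow h)))
      · exact Or.inr (Or.inr ((Nat.prime_dvd_prime_iff_eq hr (by norm_num)).1 h))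
    · rcases hcases with ⟨rfl, _⟩ | ⟨h8, _⟩ | ⟨q, _, hq, hdq, _⟩
      · rw [show (17 - 1 : ℕ) = 2 ^ 4 by norm_num] at h
        exact Or.inl ((Nat.prime_dvd_prime_iff_eq hr Nat.prime_two).1 (hr.dvd_of_dvd_pow h))
      · obtain rfl : d = 2 ^ 3 := by omega
        exact Or.inl ((Nat.prime_dvd_prime_iff_eq hr Nat.prime_two).1 (hr.dvd_of_dvd_pow h))
      · exfalso
        have h9 : 9 ∣ 2 ^ q := ⟨2, by rw [← hq]⟩
        have := Nat.Coprime.eq_one_of_dvd (Nat.Coprime.pow_right q (by norm_num : Nat.Coprime 9 2)) h9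
        omega
  have hS : ∀ s ∈ ({2, 3, 17} : Finset ℕ), ∀ P : Sylow s G, φ.ker ≤ normalizer ((P : Subgroup G) : Set G) := by
    intro s hs
    simp only [Finset.mem_insert, Finset.mem_singleton] at hs
    rcases hs with rfl | rfl | rfl
    exacts [hK2, hK3, hK17]
  have hno : ∀ r m : ℕ, r.Prime → (r = 5 ∧ m = 136 ∨ r = 19 ∧ m = 153) → Nat.card (Sylow r G) = m → ¬ r ∣ Nat.card G := by
    intro r m hr hrm hc
    haveI := Fact.mk hr
    refine not_dvd_card φ.ker hc (fun h => ?_) {2, 3, 17} ?_ hS ?_ ?_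
    · rcases hidx r hr h with h | h | h <;> omega
    · intro s hs
      simp only [Finset.mem_insert, Finset.mem_singleton] at hs
      rcases hs with rfl | rfl | rfl <;> refine ⟨by norm_num, by omega⟩
    · rcases hrm with ⟨rfl, rfl⟩ | ⟨rfl, rfl⟩
      · intro s hs d hd hdr hp
        have key : ∀ d ∈ Nat.divisors 136, d % 5 = 1 → d = 1 ∨ d = 136 := by decide +kernel
        rcases key d hd hdr with rfl | rfl
        · rfl
        · have h1 := hp 17 (Nat.mem_primeFactors.2 ⟨by norm_num, by norm_num, by norm_num⟩)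
          have h2 := hp 2 (Nat.mem_primeFactors.2 ⟨by norm_num, by norm_num, by norm_num⟩)
          omega
      · intro s hs d hd hdr hp
        have key : ∀ d ∈ Nat.divisors 153, d % 19 = 1 → d = 1 ∨ d = 153 := by decide +kernel
        rcases key d hd hdr with rfl | rfl
        · rfl
        · have h1 := hp 17 (Nat.mem_primeFactors.2 ⟨by norm_num, by norm_num, by norm_num⟩)
          have h2 := hp 3 (Nat.mem_primeFactors.2 ⟨by norm_num, by norm_num, by norm_num⟩)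
          omega
    · rcases hrm with ⟨_, rfl⟩ | ⟨_, rfl⟩
      · exact ⟨2, by simp, by norm_num⟩
      · exact ⟨3, by simp, by norm_num⟩
  have hbot : φ.ker = ⊥ := eq_bot φ.ker hZ fun s hs hsd => by
    rcases hcase s hs hsd with ⟨rfl, _⟩ | ⟨rfl | rfl, h⟩ | ⟨rfl | rfl, h⟩
    · exact hK17
    · exact hK3
    · exact absurd hsd (hno 5 136 hs (Or.inl ⟨rfl, rfl⟩) h)
    · exact hK2
    · exact absurd hsd (hno 19 153 hs (Or.inr ⟨rfl, rfl⟩) h)
  let e : G ≃* G₀ := MulEquiv.ofBijective φ ⟨(MonoidHom.ker_eq_bot_iff φ).1 hbot, hφsurj⟩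
  rcases hfinal with h | h
  · exact Or.inl (h.map e.trans)
  · exact Or.inr (h.map e.trans)

end CfsgLib.Recog.SylowSeventeen
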