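import Cfsg.Agent.S2475
import Cfsg.Agent.S0806
import Cfsg.Agent.Lib.Classical.SmallIso

/-!
# The numbers of Sylow 2- and 3-subgroups of `PSL(2, 17)`
-/

set_option autoImplicit false
set_option linter.all false

namespace CfsgLib.Recog.SylowSeventeen

open Subgroup

variable {S : Type*} [Group S] [Finite S]

/-- A group of order `2448` with the element orders and minimal index of `PSL(2, 17)`
has at least the Sylow numbers of `PSL(2, 17)`. -/
theorem card_sylow_ge (hS : Nat.card S = 2448) (h6 : ∀ g : S, orderOf g ≠ 6)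
    (h8 : ∃ c : S, orderOf c = 8) (h9 : ∃ c : S, orderOf c = 9)
    (hmin : ∀ H : Subgroup S, H ≠ ⊤ → 18 ≤ H.index) :
    (Nat.card (Sylow 2 S) ∣ 153 → Nat.card (Sylow 2 S) = 153) ∧
    (Nat.card (Sylow 3 S) ≤ 136 → Nat.card (Sylow 3 S) = 136) := by
  haveI : Fact (Nat.Prime 2) := ⟨Nat.prime_two⟩
  haveI : Fact (Nat.Prime 3) := ⟨Nat.prime_three⟩
  have h23 : ∀ a b : S, orderOf a = 2 → orderOf b = 3 → a * b = b * a → False := fun a b ha hb hab =>
    h6 (a * b) (by
      rw [Commute.orderOf_mul_eq_mul_orderOf_of_coprime hab (by rw [ha, hb]; norm_num), ha, hb])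
  constructor
  · intro hdvd
    obtain ⟨c, hc⟩ := h8
    obtain ⟨P, hP⟩ := (IsPGroup.of_card (n := 3) (G := ↥(zpowers c)) (p := 2)
      (by rw [Nat.card_zpowers, hc]; norm_num)).exists_le_sylow
    have hP16 : Nat.card (P : Subgroup S) = 16 := by
      rw [P.card_eq_multiplicity, hS,
        show (2448 : ℕ) = 2 ^ 4 * 153 by norm_num,
        Nat.factorization_mul (by norm_num) (by norm_num), Finsupp.add_apply,
        Nat.Prime.factorization_pow Nat.prime_two, Finsupp.single_eq_same,
        Nat.factorization_eq_zero_of_not_dvd (by norm_num : ¬ (2 : ℕ) ∣ 153)]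
      norm_num
    have hn : Nat.card (Sylow 2 S) = (normalizer ((P : Subgroup S) : Set S)).index := P.card_eq_index_normalizer
    have h18 : 18 ≤ Nat.card (Sylow 2 S) := by
      rw [hn]
      refine hmin _ fun htop => ?_
      have hnor : (P : Subgroup S).Normal := normalizer_eq_top_iff.1 htop
      have hne : (P : Subgroup S) ≠ ⊤ := fun h => by
        rw [h, card_top, hS] at hP16; norm_num at hP16
      have h := hmin _ hne
      have hi := card_mul_index (P : Subgroup S)
      rw [hP16, hS] at hi
      have hi' : (P : Subgroup S).index = 153 := by omega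
      -- a normal subgroup of order 16 would have a complement of index 16
      obtain ⟨K, hK⟩ := Subgroup.exists_left_complement'_of_coprime (N := (P : Subgroup S))
        (by rw [hP16, hi']; norm_num)
      have hcm := hK.card_mul
      rw [hP16, hS] at hcm
      have hKi := card_mul_index K
      rw [hS] at hKi
      have hK153 : Nat.card K = 153 := by omega
      rw [hK153] at hKi
      have hKi' : K.index = 16 := by omega
      exact absurd (hmin K fun h => by rw [h, card_top, hS] at hK153; norm_num at hK153)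
        (by rw [hKi']; norm_num)
    by_contra hne
    have h51 : Nat.card (Sylow 2 S) = 51 := by
      have hle := Nat.le_of_dvd (by norm_num) hdvd
      have : ∀ n ∈ Nat.divisors 153, 18 ≤ n → n ≠ 153 → n = 51 := by decide +kernel
      exact this _ (Nat.mem_divisors.2 ⟨hdvd, by norm_num⟩) h18 hne
    have hN := card_mul_index (normalizer ((P : Subgroup S) : Set S))
    rw [← hn, h51, hS] at hN
    obtain ⟨⟨x, hxN⟩, hx⟩ := exists_prime_orderOf_dvd_card'
      (G := ↥(normalizer ((P : Subgroup S) : Set S))) 3 (by omega)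
    rw [Subgroup.orderOf_mk] at hx
    -- `c ^ 4` is centralised by `x`
    have hcP : c ∈ (P : Subgroup S) := hP (mem_zpowers c)
    have hidx : ((zpowers c).subgroupOf (P : Subgroup S)).index = 2 := by
      have h := card_mul_index ((zpowers c).subgroupOf (P : Subgroup S))
      rw [Nat.card_congr (subgroupOfEquivOfLe hP).toEquiv, Nat.card_zpowers, hc, hP16] at h
      omega
    have hsq : ∀ p ∈ (P : Subgroup S), p * p ∈ zpowers c := fun p hp =>
      mem_subgroupOf.1 (mul_self_mem_of_index_two hidx ⟨p, hp⟩)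
    obtain ⟨d, hd⟩ : ∃ d, d = x * c * x⁻¹ := ⟨_, rfl⟩
    have hdP : d ∈ (P : Subgroup S) := hd ▸ (mem_normalizer_iff.1 hxN c).1 hcP
    have hdo : orderOf d = 8 := by rw [hd, ← MulAut.conj_apply, MulEquiv.orderOf_eq, hc]
    obtain ⟨i, hi⟩ := mem_zpowers_iff.1 (hsq d hdP)
    have hd8 : d ^ 8 = 1 := by rw [← hdo]; exact pow_orderOf_eq_one d
    have hi8 : (8 : ℤ) ∣ i * 4 := by
      rw [show (8 : ℤ) = (orderOf c : ℕ) by rw [hc]; norm_num, orderOf_dvd_iff_zpow_eq_one, zpow_mul, hi]
      rw [show ((4 : ℤ)) = ((4 : ℕ) : ℤ) from rfl, zpow_natCast, ← pow_two, ← pow_mul]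
      exact hd8
    have hd4 : d ^ 4 = c ^ (i * 2) := by
      rw [zpow_mul, hi, show ((2 : ℤ)) = ((2 : ℕ) : ℤ) from rfl, zpow_natCast, ← pow_two, ← pow_mul]
    obtain ⟨j, hj⟩ : (4 : ℤ) ∣ i * 2 := by omega
    have hd4' : d ^ 4 = c ^ (4 : ℕ) := by
      rcases Int.even_or_odd j with ⟨k, hk⟩ | ⟨k, hk⟩
      · exfalso
        have h1 : d ^ 4 = 1 := by
          rw [hd4, hj, hk, show (4 : ℤ) * (k + k) = (orderOf c : ℕ) * k by rw [hc]; push_cast; ring,
            zpow_mul, zpow_natCast, pow_orderOf_eq_one, one_zpow]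
        have := orderOf_dvd_of_pow_eq_one h1
        rw [hdo] at this
        norm_num at this
      · rw [hd4, hj, hk, show (4 : ℤ) * (2 * k + 1) = (orderOf c : ℕ) * k + (4 : ℕ) by
            rw [hc]; push_cast; ring, zpow_add, zpow_mul, zpow_natCast, pow_orderOf_eq_one, one_zpow,
          one_mul, zpow_natCast]
    refine h23 (c ^ 4) x ?_ hx ?_
    · rw [orderOf_pow' c (by norm_num : (4 : ℕ) ≠ 0), hc]; rfl
    · rw [hd, conj_pow] at hd4'
      exact (mul_inv_eq_iff_eq_mul.1 hd4').symm
  · intro hle
    obtain ⟨c, hc⟩ := h9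
    obtain ⟨P, hP⟩ := (IsPGroup.of_card (n := 2) (G := ↥(zpowers c)) (p := 3)
      (by rw [Nat.card_zpowers, hc]; norm_num)).exists_le_sylow
    have hP9 : Nat.card (P : Subgroup S) = 9 := by
      rw [P.card_eq_multiplicity, hS,
        show (2448 : ℕ) = 3 ^ 2 * 272 by norm_num,
        Nat.factorization_mul (by norm_num) (by norm_num), Finsupp.add_apply,
        Nat.Prime.factorization_pow Nat.prime_three, Finsupp.single_eq_same,
        Nat.factorization_eq_zero_of_not_dvd (by norm_num : ¬ (3 : ℕ) ∣ 272)]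
      norm_num
    have hzP : zpowers c = (P : Subgroup S) :=
      eq_of_le_of_card_ge hP (by rw [Nat.card_zpowers, hc, hP9])
    have hn : Nat.card (Sylow 3 S) = (normalizer ((P : Subgroup S) : Set S)).index := P.card_eq_index_normalizer
    have hdvd : Nat.card (Sylow 3 S) ∣ 272 := by
      refine P.card_dvd_index.trans (dvd_of_eq ?_)
      have hi := card_mul_index (P : Subgroup S)
      rw [hP9, hS] at hi
      omega
    have hmod : Nat.card (Sylow 3 S) % 3 = 1 := card_sylow_modEq_one 3 S
    by_contra hne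
    have h34 : Nat.card (Sylow 3 S) = 34 ∨ Nat.card (Sylow 3 S) < 18 := by
      have : ∀ n ∈ Nat.divisors 272, n ≤ 136 → n % 3 = 1 → n ≠ 136 → n = 34 ∨ n < 18 := by decide +kernel
      exact this _ (Nat.mem_divisors.2 ⟨hdvd, by norm_num⟩) hle hmod hne
    rcases h34 with h34 | hlt
    · have hN := card_mul_index (normalizer ((P : Subgroup S) : Set S))
      rw [← hn, h34, hS] at hN
      have hN72 : Nat.card (normalizer ((P : Subgroup S) : Set S)) = 72 := by omega
      -- a Sylow 2-subgroup of the normaliser has a nontrivial kernel on `P`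
      obtain ⟨R⟩ : Nonempty (Sylow 2 ↥(normalizer ((P : Subgroup S) : Set S))) := inferInstance
      have hR : Nat.card (R : Subgroup ↥(normalizer ((P : Subgroup S) : Set S))) = 8 := by
        rw [R.card_eq_multiplicity, hN72,
          show (72 : ℕ) = 2 ^ 3 * 9 by norm_num,
          Nat.factorization_mul (by norm_num) (by norm_num), Finsupp.add_apply,
          Nat.Prime.factorization_pow Nat.prime_two, Finsupp.single_eq_same,
          Nat.factorization_eq_zero_of_not_dvd (by norm_num : ¬ (2 : ℕ) ∣ 9)]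
        norm_num
      haveI : IsCyclic ↥(P : Subgroup S) := by
        rw [← hzP]; exact isCyclic_zpowers c
      let φ : ↥(R : Subgroup ↥(normalizer ((P : Subgroup S) : Set S))) →* MulAut ↥(P : Subgroup S) :=
        (Subgroup.normalizerMonoidHom (P : Subgroup S)).comp (R : Subgroup ↥(normalizer ((P : Subgroup S) : Set S))).subtype
      have hker : φ.ker ≠ ⊥ := fun h => by
        have := Subgroup.card_dvd_of_injective φ ((MonoidHom.ker_eq_bot_iff φ).1 h)
        rw [hR, IsCyclic.card_mulAut, hP9, show Nat.totient 9 = 6 by decide] at this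
        norm_num at this
      haveI : Nontrivial ↥φ.ker := (Subgroup.nontrivial_iff_ne_bot _).2 hker
      have h2 : 2 ∣ Nat.card φ.ker := by
        obtain ⟨n, hn⟩ := IsPGroup.iff_card.1 (R.2.to_subgroup φ.ker)
        rw [hn]
        have := Finite.one_lt_card (α := ↥φ.ker)
        rw [hn] at this
        exact dvd_pow_self 2 (by rintro rfl; simp at this)
      obtain ⟨⟨⟨⟨a, haN⟩, haR⟩, hak⟩, ha⟩ := exists_prime_orderOf_dvd_card' (G := ↥φ.ker) 2 h2
      rw [Subgroup.orderOf_mk, Subgroup.orderOf_mk, Subgroup.orderOf_mk] at ha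
      have hc3 : c ^ 3 ∈ (P : Subgroup S) := hzP ▸ pow_mem (mem_zpowers c) 3
      have := DFunLike.congr_fun (MonoidHom.mem_ker.1 hak) ⟨c ^ 3, hc3⟩
      refine h23 a (c ^ 3) ha (by rw [orderOf_pow' c (by norm_num : (3 : ℕ) ≠ 0), hc]; rfl) ?_
      exact mul_inv_eq_iff_eq_mul.1 (congrArg Subtype.val this)
    · rw [hn] at hlt
      have := hmin (normalizer ((P : Subgroup S) : Set S))
      by_cases htop : normalizer ((P : Subgroup S) : Set S) = ⊤
      · haveI : (P : Subgroup S).Normal := normalizer_eq_top_iff.1 htop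
        obtain ⟨K, hK⟩ := Subgroup.exists_left_complement'_of_coprime (N := (P : Subgroup S))
          (by
            have hi := card_mul_index (P : Subgroup S)
            rw [hP9, hS] at hi
            rw [hP9, show (P : Subgroup S).index = 272 by omega]; norm_num)
        have hcm := hK.card_mul
        rw [hP9, hS] at hcm
        have hKi := card_mul_index K
        rw [hS] at hKi
        have hK272 : Nat.card K = 272 := by omega
        rw [hK272] at hKi
        exact absurd (hmin K fun h => by rw [h, card_top, hS] at hK272; norm_num at hK272) (by omega)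
      · exact absurd (this htop) (by omega)

/-- The Sylow numbers of `PSL(2, 17)`, as lower bounds. -/
theorem psl_sylow_ge :
    (Nat.card (Sylow 2 (Matrix.ProjectiveSpecialLinearGroup (Fin 2) (ZMod 17))) ∣ 153 →
      Nat.card (Sylow 2 (Matrix.ProjectiveSpecialLinearGroup (Fin 2) (ZMod 17))) = 153) ∧
    (Nat.card (Sylow 3 (Matrix.ProjectiveSpecialLinearGroup (Fin 2) (ZMod 17))) ≤ 136 →
      Nat.card (Sylow 3 (Matrix.ProjectiveSpecialLinearGroup (Fin 2) (ZMod 17))) = 136) := by
  haveI : Fact (Nat.Prime 17) := ⟨by norm_num⟩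
  have hspec := Cfsg.Agent.S2475.result (F := ZMod 17) 17 (by rw [ZMod.card]; norm_num)
  rw [ZMod.card] at hspec
  have hmem : ∀ m : ℕ, (∃ g : Matrix.ProjectiveSpecialLinearGroup (Fin 2) (ZMod 17), orderOf g = m) ↔
      (m ∣ 17 ∨ m ∣ 8 ∨ m ∣ 9) := fun m => by
    have h := Set.ext_iff.1 hspec m
    simp only [Set.mem_range, Set.mem_setOf_eq] at h
    rw [show (17 - 1) / Nat.gcd 2 (17 - 1) = 8 by decide, show (17 + 1) / Nat.gcd 2 (17 - 1) = 9 by decide] at h
    exact h
  have hcard : Nat.card (Matrix.ProjectiveSpecialLinearGroup (Fin 2) (ZMod 17)) = 2448 := by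
    have h2 := CfsgLib.Classical.Two.card_PSL_two (F := ZMod 17)
    rw [ZMod.card, show Nat.gcd 2 (17 - 1) = 2 by decide, show 17 * (17 ^ 2 - 1) = 4896 by norm_num] at h2
    omega
  refine card_sylow_ge hcard ?_ ((hmem 8).2 (by norm_num)) ((hmem 9).2 (by norm_num)) ?_
  · intro g hg
    have := (hmem 6).1 ⟨g, hg⟩
    norm_num at this
  · exact fun H hH => (Cfsg.Agent.S0806.result (F := ZMod 17) (q := 17) (ZMod.card 17) (by decide)).1 H hH

end CfsgLib.Recog.SylowSeventeen
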